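import Cfsg.Agent.LieClassical.HermBasic
import Mathlib.NumberTheory.MulChar.Basic

/-!
# S4884, own odd characteristic: sums over the norm one parameters of a node of type `SU_3` (helper428)

* `card_nrm` : the number of `x` with `x * x ^ q = -(c + c ^ q)`;
* `card_tr0` : the number of `c` with `c + c ^ q = 0`;
* `sum_pairs` : `∑ g c` over the pairs `(x, c)` with `x * x ^ q = -(c + c ^ q)`;
* `chi_fixed`, **`sum_chi`** : the sum of a character of order `2` over these pairs.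
-/

set_option autoImplicit false

namespace Cfsg.Agent.H428.OQ

open Cfsg.Agent.LieClassical.HermBasic

variable {F : Type*} [Field F] [Fintype F] {q : ℕ}

theorem card_nrm [DecidableEq F] (hF : Fintype.card F = q ^ 2) (c : F) :
    (Finset.univ.filter fun x : F => x * x ^ q = -(c + c ^ q)).card = if c + c ^ q = 0 then 1 else q + 1 := by
  split_ifs with h
  · have h1 : (Finset.univ.filter fun x : F => x * x ^ q = -(c + c ^ q)) = {0} := by
      ext x
      rw [Finset.mem_filter, Finset.mem_singleton, h, neg_zero, norm_eq_zero hF]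
      simp
    rw [h1, Finset.card_singleton]
  · have h1 := card_norm_eq hF (c := -(c + c ^ q)) (by rw [neg_pow_q hF, trace_pow_q hF]) (neg_ne_zero.2 h)
    rw [← h1, Nat.card_eq_fintype_card, Fintype.card_subtype]

theorem card_tr0 [DecidableEq F] (hF : Fintype.card F = q ^ 2) {c0 : F} (h0 : c0 ≠ 0) (hc : c0 ^ q = -c0) :
    (Finset.univ.filter fun c : F => c + c ^ q = 0).card = q := by
  rw [← Fintype.card_subtype, ← Nat.card_eq_fintype_card]
  have e : {c : F // c + c ^ q = 0} ≃ {x : F // x ^ q = x} :=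
    { toFun := fun c => ⟨c.1 * c0⁻¹, by
        have h1 : c.1 ^ q = -c.1 := eq_neg_of_add_eq_zero_right c.2
        rw [mul_pow, inv_pow, hc, h1, inv_neg, neg_mul_neg]⟩
      invFun := fun x => ⟨x.1 * c0, by rw [mul_pow, hc, x.2, mul_neg, add_neg_cancel]⟩
      left_inv := fun c => Subtype.ext (inv_mul_cancel_right₀ h0 _)
      right_inv := fun x => Subtype.ext (mul_inv_cancel_right₀ h0 _) }
  exact (Nat.card_congr e).trans (card_fixed hF)

/-- the sum of a function of `c` over the pairs `(x, c)` with `x * x ^ q = -(c + c ^ q)` -/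
theorem sum_pairs [DecidableEq F] (hF : Fintype.card F = q ^ 2) (g : F → ℂ) :
    ∑ y : {y : F × F // y.1 * y.1 ^ q = -(y.2 + y.2 ^ q)}, g y.1.2 =
      (q + 1) * ∑ c, g c - q * ∑ c ∈ Finset.univ.filter fun c : F => c + c ^ q = 0, g c := by
  have h1 : ∑ y : {y : F × F // y.1 * y.1 ^ q = -(y.2 + y.2 ^ q)}, g y.1.2 =
      ∑ y : F × F, if y.1 * y.1 ^ q = -(y.2 + y.2 ^ q) then g y.2 else 0 := by
    rw [← Finset.sum_filter]
    exact (Finset.sum_subtype (p := fun y : F × F => y.1 * y.1 ^ q = -(y.2 + y.2 ^ q)) _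
      (fun y => by simp) (fun y : F × F => g y.2)).symm
  rw [h1, Fintype.sum_prod_type_right, Finset.mul_sum, Finset.mul_sum, Finset.sum_filter, ← Finset.sum_sub_distrib]
  refine Finset.sum_congr rfl fun c _ => ?_
  dsimp only
  rw [← Finset.sum_filter, Finset.sum_const, card_nrm hF]
  split_ifs with h
  · rw [one_smul]; ring
  · rw [nsmul_eq_mul]; push_cast; ring

/-- a character of order `2` is trivial on the subfield -/
theorem chi_fixed (hF : Fintype.card F = q ^ 2) (hq : Odd q) (χ : MulChar F ℂ) (hχ : ∀ u, u ≠ 0 → χ u * χ u = 1)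
    {y : F} (hy : y ^ q = y) (h0 : y ≠ 0) : χ y = 1 := by
  obtain ⟨x, hx⟩ := exists_norm_eq hF hy
  obtain ⟨k, rfl⟩ := hq
  have hx0 : x ≠ 0 := by
    rintro rfl
    rw [zero_mul] at hx
    exact h0 hx.symm
  have h1 : y = x ^ (k + 1) * x ^ (k + 1) := by
    rw [← hx]; ring
  rw [h1, map_mul]
  exact hχ _ (pow_ne_zero _ hx0)

/-- **the sum of a character of order `2` over the pairs `(x, c)`** -/
theorem sum_chi (hF : Fintype.card F = q ^ 2) (hq : Odd q) (χ : MulChar F ℂ) (hχ : ∀ u, u ≠ 0 → χ u * χ u = 1)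
    (hne : χ ≠ 1) {c0 : F} (h0 : c0 ≠ 0) (hc : c0 ^ q = -c0) [Fintype {y : F × F // y.1 * y.1 ^ q = -(y.2 + y.2 ^ q)}] :
    ∑ y : {y : F × F // y.1 * y.1 ^ q = -(y.2 + y.2 ^ q)}, χ (y.1.2 * c0⁻¹) = -(q * (q - 1)) := by
  classical
  have h1 := sum_pairs hF (fun c => χ (c * c0⁻¹))
  have h2 : ∑ c, χ (c * c0⁻¹) = 0 := by
    rw [← MulChar.sum_eq_zero_of_ne_one hne]
    exact Fintype.sum_equiv (Equiv.mulRight₀ c0⁻¹ (inv_ne_zero h0)) _ _ (fun c => rfl)
  have h3 : ∑ c ∈ Finset.univ.filter (fun c : F => c + c ^ q = 0), χ (c * c0⁻¹) = q - 1 := by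
    have h5 : (0 : F) ∈ Finset.univ.filter (fun c : F => c + c ^ q = 0) := by
      rw [Finset.mem_filter]
      exact ⟨Finset.mem_univ _, by rw [zero_pow_q hF, add_zero]⟩
    rw [← Finset.add_sum_erase _ _ h5, zero_mul, MulChar.map_zero, zero_add]
    have h6 : ∀ c ∈ (Finset.univ.filter (fun c : F => c + c ^ q = 0)).erase 0, χ (c * c0⁻¹) = 1 := by
      intro c hc'
      rw [Finset.mem_erase, Finset.mem_filter] at hc'
      refine chi_fixed hF hq χ hχ ?_ (mul_ne_zero hc'.1 (inv_ne_zero h0))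
      have h7 : c ^ q = -c := eq_neg_of_add_eq_zero_right hc'.2.2
      rw [mul_pow, inv_pow, hc, h7, inv_neg, neg_mul_neg]
    rw [Finset.sum_congr rfl h6, Finset.sum_const, Finset.card_erase_of_mem h5, card_tr0 hF h0 hc, nsmul_eq_mul,
      mul_one, Nat.cast_sub (q_pos hF), Nat.cast_one]
  have h4 : ∑ y : {y : F × F // y.1 * y.1 ^ q = -(y.2 + y.2 ^ q)}, χ (y.1.2 * c0⁻¹) =
      (q + 1) * ∑ c, χ (c * c0⁻¹) - q * ∑ c ∈ Finset.univ.filter fun c : F => c + c ^ q = 0, χ (c * c0⁻¹) := by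
    convert h1
  rw [h4, h2, h3]
  ring

/-- the number of pairs `(x, c)` -/
theorem card_pairs (hF : Fintype.card F = q ^ 2) {c0 : F} (h0 : c0 ≠ 0) (hc : c0 ^ q = -c0) :
    Nat.card {y : F × F // y.1 * y.1 ^ q = -(y.2 + y.2 ^ q)} = q ^ 3 := by
  classical
  have h1 := sum_pairs hF (fun _ => (1 : ℂ))
  have h3 : ∑ c ∈ Finset.univ.filter (fun c : F => c + c ^ q = 0), (1 : ℂ) = q := by
    rw [Finset.sum_const, card_tr0 hF h0 hc, nsmul_eq_mul, mul_one]
  have h4 : (Finset.univ : Finset F).sum (fun _ => (1 : ℂ)) = (q : ℂ) ^ 2 := by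
    rw [Finset.sum_const, Finset.card_univ, hF, nsmul_eq_mul, mul_one]
    push_cast
    rfl
  rw [h3, h4, Finset.sum_const, Finset.card_univ, nsmul_eq_mul, mul_one, ← Nat.card_eq_fintype_card] at h1
  have h2 : ((Nat.card {y : F × F // y.1 * y.1 ^ q = -(y.2 + y.2 ^ q)} : ℕ) : ℂ) = ((q ^ 3 : ℕ) : ℂ) := by
    rw [h1]
    push_cast
    ring
  exact_mod_cast h2

end Cfsg.Agent.H428.OQ
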