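import Cfsg.Agent.H69.OQ.InOdd
import Cfsg.Agent.H428.OQ.SUSum

/-!
# S4884, own odd characteristic: the last node of the Witt frame of `PSU_N(q)`, `N` odd, is of type `SU_3` (helper428)

* `Line` : a Witt frame with the anisotropic part a line `⟨d⟩`, `h d d = 1`, `σ x = x ^ q`, `ε = 1`;
* **`suNode_line`** : the last node is a `SUNode`; **`suNode_psu`** : for the model of `PSU`;
* **`hasInB_psu_odd`** : `HasInB p (B m) (PSU (2 m + 1) F q)`, `m ≥ 1`, `q` odd.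
-/

set_option autoImplicit false
set_option linter.unusedSectionVars false

namespace Cfsg.Agent.H428.OQ

open Cfsg Cfsg.Agent.LieClassical.HermBasic
open CoxeterSystem Cfsg.Agent.ChevalleyStructure.CoxeterGeom Cfsg.Agent.Tits.Roots Cfsg.Agent.Nodes.TypeC
open Cfsg.Agent.Nodes Cfsg.Agent.Nodes.Comb Cfsg.Agent.Nodes.Reps Cfsg.Agent.Nodes.WittRoot Cfsg.Agent.Nodes.BNOf
open Cfsg.Agent.Nodes.WittRGD Cfsg.Agent.Nodes.RGDLib Cfsg.Agent.H684.OQ Cfsg.Agent.H69.OQ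
open Cfsg.Agent.TitsThree Cfsg.Agent.TitsThree.Siegel Cfsg.Agent.TitsThree.WittFrame
  Cfsg.Agent.TitsThree.WittWeyl Cfsg.Agent.TitsThree.FrameCN

variable {F : Type*} [Field F] {V : Type*} [AddCommGroup V] [Module F V] {H : HForm F V} {n : ℕ}
  (Fr : Frame H (Fin n))

/-- the anisotropic part of the frame is a line -/
structure Line (q : ℕ) (d : V) : Prop where
  σ : ∀ x, H.σ x = x ^ q
  ε : H.ε = 1
  mem : d ∈ Fr.V0
  one : H.h d d = 1
  span : ∀ w ∈ Fr.V0, ∃ x : F, w = x • d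
  ok : ∀ w ∈ Fr.V0, ∀ c, c + c ^ q = -H.h w w → Fr.ok w c

variable {Fr} [Fintype F] {q : ℕ} {d : V}

section basic

variable (hF : Fintype.card F = q ^ 2) (D : Line Fr q d)

include D

theorem Line.ne_zero : d ≠ 0 := by
  rintro rfl
  have h := D.one
  rw [H.zero_left] at h
  exact zero_ne_one h

theorem Line.h_smul (x y : F) : H.h (x • d) (y • d) = x * y ^ q := by
  rw [H.smul_left, H.smul_right, D.one, D.σ, mul_one]

/-- the pair `(x d, c)` -/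
def Line.mk' (x c : F) (h : x * x ^ q = -(c + c ^ q)) : Fr.Adm :=
  ⟨x • d, c, D.ok _ (Fr.V0.smul_mem x D.mem) _ (by rw [D.h_smul, h, _root_.neg_neg])⟩

/-- the pairs `(x, c)` -/
noncomputable def Line.equiv : {y : F × F // y.1 * y.1 ^ q = -(y.2 + y.2 ^ q)} ≃ Fr.Adm :=
  Equiv.ofBijective (fun y => D.mk' y.1.1 y.1.2 y.2) (by
    constructor
    · intro y y' h
      have h1 : y.1.1 • d = y'.1.1 • d := congrArg Frame.Adm.w h
      have h2 : y.1.2 = y'.1.2 := congrArg Frame.Adm.c h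
      exact Subtype.ext (Prod.ext (smul_left_injective F D.ne_zero h1) h2)
    · intro p
      obtain ⟨x, hx⟩ := D.span p.w (Fr.ok_mem p.ok)
      refine ⟨⟨(x, p.c), ?_⟩, Frame.Adm.ext hx.symm rfl⟩
      have h1 := p.herm
      rw [D.ε, one_mul, D.σ, hx, D.h_smul] at h1
      exact (neg_eq_iff_eq_neg.1 h1.symm))

theorem Line.equiv_c (y) : (D.equiv y).c = y.1.2 := rfl

theorem Line.herm (p : Fr.Adm) : p.c + p.c ^ q = -H.h p.w p.w := by
  have h1 := p.herm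
  rwa [D.ε, one_mul, D.σ] at h1

theorem Line.c_pow {p : Fr.Adm} (hp : p.w = 0) : p.c ^ q = -p.c := by
  have h1 := D.herm p
  rw [hp, H.zero_left, neg_zero] at h1
  exact eq_neg_of_add_eq_zero_right h1

include hF

theorem Line.exists_c {c : F} : ∃ p : Fr.Adm, p.c = c := by
  obtain ⟨x, hx⟩ := exists_norm_eq hF (c := -(c + c ^ q)) (by rw [neg_pow_q hF, trace_pow_q hF])
  exact ⟨D.mk' x c hx, rfl⟩

theorem Line.exists_w (x : F) : ∃ p : Fr.Adm, p.w = x • d := by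
  obtain ⟨c, hc⟩ := exists_trace_eq hF (c := -(x * x ^ q)) (by rw [neg_pow_q hF, norm_pow_q hF])
  exact ⟨D.mk' x c (by rw [hc, _root_.neg_neg]), rfl⟩

theorem Line.eq_one {p : Fr.Adm} (hc : p.c = 0) : p = 1 := by
  obtain ⟨x, hx⟩ := D.span p.w (Fr.ok_mem p.ok)
  have h1 := D.herm p
  rw [hc, zero_pow_q hF, add_zero, hx, D.h_smul, zero_eq_neg, norm_eq_zero hF] at h1
  refine Frame.Adm.ext ?_ hc
  rw [hx, h1, zero_smul]
  rfl

end basic

/-! ### The torus elements `dZ a p0 p` -/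

section tor

variable (hF : Fintype.card F = q ^ 2) (D : Line Fr q d) {G0 : Subgroup (V ≃ₗ[F] V)} (hA : Amb Fr G0)
  (a : Fin n × Bool) {p0 : Fr.Adm} (hp0 : p0.c ≠ 0) (hw0 : p0.w = 0)

include D hp0 hw0

theorem nZ_p0_V0 {v : V} (hv : v ∈ Fr.V0) : nZ Fr a p0 v = v := by
  rw [nZ_apply_V0 Fr a p0 hp0 hv, hw0, smul_zero, add_zero]

theorem dZ_V0 {p : Fr.Adm} (hp : p.c ≠ 0) {v : V} (hv : v ∈ Fr.V0) :
    dZ Fr a p0 p v = (-(p.c ^ q / p.c)) • v := by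
  have h1 : (nZ Fr a p0)⁻¹ v = v := by
    nth_rewrite 1 [← nZ_p0_V0 D a hp0 hw0 hv]
    rw [← mul_apply', inv_mul_cancel]
    rfl
  obtain ⟨y, rfl⟩ := D.span v hv
  obtain ⟨x, hx⟩ := D.span p.w (Fr.ok_mem p.ok)
  have h2 := D.herm p
  rw [hx, D.h_smul] at h2
  rw [dZ, mul_apply', h1, nZ_apply_V0 Fr a p hp hv, hx, D.h_smul, D.ε, smul_smul, smul_smul, ← add_smul]
  congr 1
  field_simp
  linear_combination y * h2

include hA

/-- `dZ a p0 p` depends only on `p.c` -/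
theorem dZ_congr {p p' : Fr.Adm} (hp : p.c ≠ 0) (h : p.c = p'.c) : dZ Fr a p0 p = dZ Fr a p0 p' := by
  have hp' : p'.c ≠ 0 := h ▸ hp
  refine ext_of hA (fun z => ?_) fun w hw => ?_
  · by_cases h1 : z.1 = a.1
    · rcases eq_or_ng h1 with rfl | rfl
      · rw [dZ_a hp0 hp, dZ_a hp0 hp', h]
      · have e1 : dZ Fr a p0 p (Fr.b (ng a)) = _ := dZ_na hp0 hp
        have e2 : dZ Fr a p0 p' (Fr.b (ng a)) = _ := dZ_na hp0 hp'
        rw [e1, e2, h]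
    · rw [dZ_ne h1, dZ_ne h1]
  · rw [dZ_V0 D a hp0 hw0 hp hw, dZ_V0 D a hp0 hw0 hp' hw, h]

include hF

theorem dZ_mul {p p' p'' : Fr.Adm} (hp : p.c ≠ 0) (hp' : p'.c ≠ 0) (hp'' : p''.c ≠ 0)
    (hc : p''.c * p0.c = p.c * p'.c) : dZ Fr a p0 p'' = dZ Fr a p0 p * dZ Fr a p0 p' := by
  refine dZ_mul_of hA a hp0 hp hp' hp'' hc fun v hv => ?_
  rw [dZ_V0 D a hp0 hw0 hp'' hv, dZ_V0 D a hp0 hw0 hp' hv, map_smul, dZ_V0 D a hp0 hw0 hp hv, smul_smul]
  congr 1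
  have h1 := congrArg (fun x => x ^ q) hc
  simp only [mul_pow, D.c_pow hw0] at h1
  have h2 : p''.c ^ q * p0.c = -(p.c ^ q * p'.c ^ q) := by linear_combination -h1
  have h3 : p.c * p'.c ≠ 0 := mul_ne_zero hp hp'
  field_simp
  apply mul_right_cancel₀ hp0
  linear_combination (-(p.c * p'.c)) * h2 - (p.c ^ q * p'.c ^ q) * hc

/-- the square of the last Weyl element -/
theorem nZ_sq : nZ Fr a p0 * nZ Fr a p0 = dZ Fr a p0 p0⁻¹ := by
  have hc : (p0⁻¹ : Fr.Adm).c = -p0.c := by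
    rw [Frame.Adm.inv_c, hw0, H.zero_left, mul_zero, sub_zero]
  have hc' : (p0⁻¹ : Fr.Adm).c ≠ 0 := by rw [hc]; exact neg_ne_zero.2 hp0
  have hσ : H.σ p0.c = -p0.c := by rw [D.σ, D.c_pow hw0]
  have hη := Fr.η_ne a
  refine ext_of hA (fun z => ?_) fun w hw => ?_
  · by_cases h1 : z.1 = a.1
    · rcases eq_or_ng h1 with rfl | rfl
      · rw [dZ_a hp0 hc', hc, mul_apply', nZ_apply_self Fr _ p0 hp0, map_smul, nZ_apply_neg Fr _ p0 hp0, smul_smul, hσ,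
          D.ε]
        congr 1
        field_simp
      · have e1 : dZ Fr a p0 p0⁻¹ (Fr.b (ng a)) = _ := dZ_na hp0 hc'
        have e2 : nZ Fr a p0 (Fr.b (ng a)) = _ := nZ_apply_neg Fr a p0 hp0
        rw [e1, mul_apply', e2, map_smul, nZ_apply_self Fr _ p0 hp0, smul_smul, hc, map_neg, hσ, D.ε]
        congr 1
        field_simp
    · rw [dZ_ne h1, mul_apply', nZ_apply_of_ne Fr h1, nZ_apply_of_ne Fr h1]
  · rw [dZ_V0 D a hp0 hw0 hc' hw, mul_apply', nZ_p0_V0 D a hp0 hw0 hw, nZ_p0_V0 D a hp0 hw0 hw, hc, neg_pow_q hF,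
      D.c_pow hw0]
    rw [_root_.neg_neg, div_neg, div_self hp0, _root_.neg_neg, one_smul]

end tor

/-! ### The node -/

section node

variable (hF : Fintype.card F = q ^ 2) (hq : Odd q) (D : Line Fr q d) {K0 : Type*} [Group K0] (M : Model Fr K0)
  (hA : Amb Fr M.I) {p0 : Fr.Adm} (hp0 : p0.c ≠ 0) (hw0 : p0.w = 0)

/-- the root group of the last node as the image of the group of admissible pairs -/
def rho (a : Fin n × Bool) : Fr.Adm →* K0 :=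
  MonoidHom.mk' (fun r => M.φ ⟨Fr.Z a r, M.hZ _ _⟩) fun r s => by
    rw [← map_mul]
    congr 1
    exact Subtype.ext (Fr.Z_mul a r s)

theorem rho_inj (a : Fin n × Bool) : Function.Injective (rho M a) := fun _ _ h => model_Z_inj M h

/-- the pairs with `w = 0` -/
def adm0 (Fr : Frame H (Fin n)) : Subgroup Fr.Adm where
  carrier := {r | r.w = 0}
  one_mem' := rfl
  mul_mem' := fun {r s} (hr : r.w = 0) (hs : s.w = 0) => by
    show (r * s).w = 0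
    rw [Frame.Adm.mul_w, hr, hs, add_zero]
  inv_mem' := fun {r} (hr : r.w = 0) => by
    show (r⁻¹).w = 0
    rw [Frame.Adm.inv_w, hr, neg_zero]

theorem mem_adm0 {r : Fr.Adm} : r ∈ adm0 Fr ↔ r.w = 0 := Iff.rfl

theorem mem_map_adm0 {a : Fin n × Bool} {r : Fr.Adm} : rho M a r ∈ (adm0 Fr).map (rho M a) ↔ r.w = 0 := by
  constructor
  · rintro ⟨s, hs, h⟩
    rw [← rho_inj M a h]
    exact hs
  · intro h
    exact ⟨r, h, rfl⟩

theorem nZ_memI (a : Fin n × Bool) (p : Fr.Adm) : nZ Fr a p ∈ M.I :=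
  mul_mem (mul_mem (M.hZ _ _) (M.hZ _ _)) (M.hZ _ _)

theorem dZ_memI (a : Fin n × Bool) (p0 p : Fr.Adm) : dZ Fr a p0 p ∈ M.I :=
  mul_mem (nZ_memI M a p) (inv_mem (nZ_memI M a p0))

theorem dZ_memT {i : Fin n} (hi : ¬ (i : ℕ) + 1 < n) (hp0 : p0.c ≠ 0) {p : Fr.Adm} (hp : p.c ≠ 0) :
    M.φ ⟨dZ Fr (i, true) p0 p, dZ_memI M _ _ _⟩ ∈ WittModel.T M :=
  Subgroup.mem_map_of_mem _ (Subgroup.mem_subgroupOf.2 ⟨dZ_memI M _ _ _,
    ((mono_nZ hi hp).mul ((mono_nZ hi hp0).inv (sg_sg i))).congr fun x => sg_sg i x⟩)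

/-- the pair `P` with `n_i Z_a(r) n_i⁻¹ = Z_{-a}(al P)` -/
def pr (p0 r : Fr.Adm) : Fr.Adm := Frame.Adm.smul (-(H.σ p0.c * r.c⁻¹)) r

theorem pr_w (p0 r : Fr.Adm) : (pr p0 r).w = (-(H.σ p0.c * r.c⁻¹)) • r.w := rfl

theorem pr_c (p0 r : Fr.Adm) : (pr p0 r).c = (-(H.σ p0.c * r.c⁻¹)) * H.σ (-(H.σ p0.c * r.c⁻¹)) * r.c := rfl

theorem pr_c' (p0 : Fr.Adm) {r : Fr.Adm} (hr : r.c ≠ 0) : (pr p0 r).c = H.σ p0.c * p0.c * (H.σ r.c)⁻¹ := by
  have hσ : H.σ r.c ≠ 0 := by simpa using hr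
  rw [pr_c]
  simp only [map_neg, map_mul, map_inv₀, H.σσ]
  field_simp

theorem pr_c_ne (hp0 : p0.c ≠ 0) {r : Fr.Adm} (hr : r.c ≠ 0) : (pr p0 r).c ≠ 0 := by
  have hσ : H.σ r.c ≠ 0 := by simpa using hr
  have hσ0 : H.σ p0.c ≠ 0 := by simpa using hp0
  rw [pr_c' p0 hr]
  exact mul_ne_zero (mul_ne_zero hσ0 hp0) (inv_ne_zero hσ)

/-- the right factor -/
def rt (p0 r : Fr.Adm) : Fr.Adm := Frame.Adm.smul (H.ε * (pr p0 r).c * (H.σ (pr p0 r).c)⁻¹) (pr p0 r)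

theorem rt_w (hp0 : p0.c ≠ 0) {r : Fr.Adm} (hr : r.c ≠ 0) : (rt p0 r).w = 0 ↔ r.w = 0 := by
  have h1 := pr_c_ne hp0 hr
  have h2 : H.σ (pr p0 r).c ≠ 0 := by simpa using h1
  have hσ0 : H.σ p0.c ≠ 0 := by simpa using hp0
  rw [rt, Frame.Adm.smul_w, pr_w, smul_eq_zero, smul_eq_zero, neg_eq_zero]
  constructor
  · rintro (h | h | h)
    · exact absurd h (mul_ne_zero (mul_ne_zero H.ε_ne h1) (inv_ne_zero h2))
    · exact absurd h (mul_ne_zero hσ0 (inv_ne_zero hr))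
    · exact h
  · intro h
    exact Or.inr (Or.inr h)

include D hA in
/-- the rank one identity -/
theorem conj_nZ (hp0 : p0.c ≠ 0) (hw0 : p0.w = 0) (i : Fin n) {r : Fr.Adm} (hr : r.c ≠ 0) :
    nZ Fr (i, true) p0 * Fr.Z (i, true) r * (nZ Fr (i, true) p0)⁻¹ =
      (Fr.Z (i, true) (pr p0 r))⁻¹ * dZ Fr (i, true) p0 (pr p0 r) * nZ Fr (i, true) p0 *
        (Fr.Z (i, true) (rt p0 r))⁻¹ := by
  have hσ : H.σ r.c ≠ 0 := by simpa using hr
  have hσ0 : H.σ p0.c ≠ 0 := by simpa using hp0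
  have hη : Fr.η (i, true) = 1 := D.ε
  have h1 : nZ Fr (i, true) p0 * Fr.Z (i, true) r * (nZ Fr (i, true) p0)⁻¹ =
      Fr.Z (neg (i, true)) (al Fr (i, true) (pr p0 r)) := by
    rw [conj_Z Fr (isIso_nZ Fr _ _) (nZ_apply_self Fr (i, true) p0 hp0) r r
      (nZ_p0_V0 D _ hp0 hw0 (Fr.ok_mem r.ok)) rfl]
    congr 1
    rw [al, pr, Frame.Adm.smul_smul, ← pr, pr_c' p0 hr, hη, D.ε]
    congr 1
    simp only [map_mul, map_inv₀, map_one, H.σσ]
    field_simp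
  have h2 : nZ Fr (i, true) (pr p0 r) = Fr.Z (i, true) (pr p0 r) *
      Fr.Z (neg (i, true)) (al Fr (i, true) (pr p0 r)) * Fr.Z (i, true) (rt p0 r) := rfl
  rw [h1, dZ, h2]
  group

include hF D hA in
/-- the character of `F` of a character of order `2` of `T` -/
theorem exists_chi (hp0 : p0.c ≠ 0) (hw0 : p0.w = 0) {i : Fin n} (hi : ¬ (i : ℕ) + 1 < n)
    (nu : ↥(WittModel.T M) →* ℂˣ) (hnu : ∀ s, nu s * nu s = 1) :
    ∃ χ : MulChar F ℂ, (∀ u, u ≠ 0 → χ u * χ u = 1) ∧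
      ∀ (r : Fr.Adm), r.c ≠ 0 → ∀ h : M.φ ⟨dZ Fr (i, true) p0 (pr p0 r), dZ_memI M _ _ _⟩ ∈ WittModel.T M,
        ((nu ⟨_, h⟩ : ℂˣ) : ℂ) = χ (r.c * p0.c⁻¹) := by
  choose pc hpc using fun u : Fˣ => D.exists_c hF (c := (u : F) * p0.c)
  have hpc0 : ∀ u, (pc u).c ≠ 0 := fun u => by rw [hpc]; exact mul_ne_zero u.ne_zero hp0
  let ψ : Fˣ →* ℂˣ := MonoidHom.mk'
    (fun u => nu ⟨M.φ ⟨dZ Fr (i, true) p0 (pc u), dZ_memI M _ _ _⟩, dZ_memT M hi hp0 (hpc0 u)⟩) fun u v => by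
      rw [← map_mul]
      congr 1
      apply Subtype.ext
      change M.φ _ = M.φ _ * M.φ _
      rw [← map_mul]
      congr 1
      apply Subtype.ext
      refine dZ_mul hF D hA _ hp0 hw0 (hpc0 u) (hpc0 v) (hpc0 _) ?_
      rw [hpc, hpc, hpc, Units.val_mul]
      ring
  have hψ : ∀ u, ψ u * ψ u = 1 := fun u => hnu _
  let κ : Fˣ →* ℂˣ := ψ.comp (invMonoidHom.comp (Units.map (H.σ : F →* F)))
  refine ⟨MulChar.ofUnitHom κ, fun u hu => ?_, fun r hr h => ?_⟩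
  · have h1 : MulChar.ofUnitHom κ u = ((κ (Units.mk0 u hu) : ℂˣ) : ℂ) := MulChar.ofUnitHom_coe κ (Units.mk0 u hu)
    rw [h1, ← Units.val_mul]
    exact congrArg Units.val (hψ _)
  · have hr0 : r.c * p0.c⁻¹ ≠ 0 := mul_ne_zero hr (inv_ne_zero hp0)
    have h1 : MulChar.ofUnitHom κ (r.c * p0.c⁻¹) = ((κ (Units.mk0 _ hr0) : ℂˣ) : ℂ) :=
      MulChar.ofUnitHom_coe κ (Units.mk0 _ hr0)
    rw [h1]
    congr 1
    change nu _ = nu _
    congr 1
    apply Subtype.ext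
    change M.φ _ = M.φ _
    congr 1
    apply Subtype.ext
    refine dZ_congr D hA _ hp0 hw0 (pr_c_ne hp0 hr) ?_
    rw [hpc, pr_c' p0 hr]
    have h3 : (((invMonoidHom.comp (Units.map (H.σ : F →* F))) (Units.mk0 _ hr0) : Fˣ) : F) =
        (H.σ (r.c * p0.c⁻¹))⁻¹ := Units.val_inv_eq_inv_val _
    have hσ : H.σ r.c ≠ 0 := by simpa using hr
    have hσ0 : H.σ p0.c ≠ 0 := by simpa using hp0
    rw [h3, map_mul, map_inv₀]
    field_simp

include hF D in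
/-- every element of `Z` is a commutator -/
theorem exists_comm (h2 : (2 : F) ≠ 0) {z : Fr.Adm} (hz : z.w = 0) : ∃ r s : Fr.Adm, r * s = z * (s * r) := by
  obtain ⟨r, hr⟩ := D.exists_w hF (z.c / 2)
  obtain ⟨s, hs⟩ := D.exists_w hF 1
  refine ⟨r, s, Frame.Adm.ext ?_ ?_⟩
  · rw [Frame.Adm.mul_w, Frame.Adm.mul_w, Frame.Adm.mul_w, hz, zero_add, add_comm]
  · have h3 : H.σ z.c = -z.c := by rw [D.σ, D.c_pow hz]
    have h4 : (z.c / 2) ^ q = -z.c / 2 := by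
      rw [← D.σ, map_div₀, h3]
      congr 1
      exact map_ofNat H.σ 2
    simp only [Frame.Adm.mul_c, Frame.Adm.mul_w, hz, hr, hs, D.ε, H.zero_right, D.h_smul, h4, one_pow]
    field_simp
    ring

include hF hq D hA in
/-- **the last node is of type `SU_3`** -/
theorem suNode_line (hp0 : p0.c ≠ 0) (hw0 : p0.w = 0) {i : Fin n} (hi : ¬ (i : ℕ) + 1 < n)
    (hmem : ∀ i, WittRGD.nn Fr p0 i ∈ M.I) :
    SUNode (WittModel.T M) (fun i => M.φ ⟨WittRGD.nn Fr p0 i, hmem i⟩) (WittModel.X M) i := by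
  classical
  have h2 : (2 : F) ≠ 0 := two_ne_of_odd (by rw [hF]; exact hq.pow)
  have hnx : nx i = (i, true) := by unfold nx; rw [dif_neg hi]
  have hnn : WittRGD.nn Fr p0 i = nZ Fr (i, true) p0 := by unfold WittRGD.nn; rw [if_neg hi]
  have hX1 : rg Fr (sr i) = ZG Fr (i, true) := by rw [rg_sr, hnx, PG_self]
  set ρ := rho M (i, true) with hρ
  have hinj : Function.Injective ρ := rho_inj M _
  have hmX : ∀ r, ρ r ∈ WittModel.X M (sr i) := by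
    intro r
    refine WittModel.mem_X_of M _ ?_
    rw [hX1]
    exact ⟨r, rfl⟩
  have hX : ∀ x ∈ WittModel.X M (sr i), ∃ r, ρ r = x := by
    intro x hx
    obtain ⟨g, hg, hgx, rfl⟩ := (WittModel.mem_X M).1 hx
    rw [hX1] at hgx
    obtain ⟨r, rfl⟩ := hgx
    exact ⟨r, rfl⟩
  have hne : ∀ r, ρ r ≠ 1 → r.c ≠ 0 := by
    intro r hr h
    apply hr
    rw [D.eq_one hF h, map_one]
  have hc0 : p0.c ^ q = -p0.c := D.c_pow hw0
  have hσ0 : H.σ p0.c = -p0.c := by rw [D.σ, hc0]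
  -- the parametrisation of `X_i`
  let E : Fr.Adm ≃ ↥(WittModel.X M (sr i)) := Equiv.ofBijective (fun r => ⟨ρ r, hmX r⟩)
    ⟨fun r s h => hinj (congrArg Subtype.val h), fun x => by
      obtain ⟨r, hr⟩ := hX x.1 x.2
      exact ⟨r, Subtype.ext hr⟩⟩
  let ro : K0 → Fr.Adm := Function.invFun ρ
  have hro : ∀ r, ro (ρ r) = r := Function.leftInverse_invFun hinj
  refine ⟨q, (adm0 Fr).map ρ, fun x => M.φ ⟨dZ Fr (i, true) p0 (pr p0 (ro x)), dZ_memI M _ _ _⟩,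
    fun x => (ρ (rt p0 (ro x)))⁻¹, two_le hF, ?_, ?_, ?_, ?_, ?_, ?_, ?_, ?_⟩
  · rintro _ ⟨r, -, rfl⟩
    exact hmX r
  · -- `|Z| = q`
    rw [Subgroup.card_map_of_injective hinj, ← card_tr0 hF hp0 hc0, ← Fintype.card_subtype,
      ← Nat.card_eq_fintype_card]
    refine Nat.card_congr ⟨fun r => ⟨r.1.c, ?_⟩, fun c => ⟨D.mk' 0 c.1 ?_, ?_⟩, fun r => ?_, fun c => ?_⟩
    · have h3 : r.1.w = 0 := r.2
      rw [D.c_pow h3, add_neg_cancel]
    · rw [c.2, zero_mul, neg_zero]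
    · change (0 : F) • d = 0
      rw [zero_smul]
    · have h3 : r.1.w = 0 := r.2
      apply Subtype.ext
      apply Frame.Adm.ext
      · change (0 : F) • d = r.1.w
        rw [zero_smul, h3]
      · rfl
    · rfl
  · -- `|X| = q ^ 3`
    rw [← Nat.card_congr E, ← Nat.card_congr D.equiv, card_pairs hF hp0 hc0]
  · -- characters are trivial on `Z`
    rintro f z ⟨y, hy, hy'⟩
    obtain ⟨r, s, h3⟩ := exists_comm hF D h2 (mem_adm0.1 hy)
    have hz : z = ⟨ρ y, hmX y⟩ := Subtype.ext hy'.symm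
    have h4 : (⟨ρ r, hmX r⟩ * ⟨ρ s, hmX s⟩ : ↥(WittModel.X M (sr i))) =
        ⟨ρ y, hmX y⟩ * (⟨ρ s, hmX s⟩ * ⟨ρ r, hmX r⟩) := by
      apply Subtype.ext
      change ρ r * ρ s = ρ y * (ρ s * ρ r)
      rw [← map_mul, ← map_mul, ← map_mul, h3]
    have h5 := congrArg f h4
    rw [map_mul, map_mul, map_mul, mul_comm (f ⟨ρ s, hmX s⟩)] at h5
    rw [hz]
    exact mul_eq_right.1 h5.symm
  · -- commutators
    intro x hx y hy
    obtain ⟨r, rfl⟩ := hX x hx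
    obtain ⟨s, rfl⟩ := hX y hy
    refine ⟨r * s * r⁻¹ * s⁻¹, ?_, by rw [map_mul, map_mul, map_mul, map_inv, map_inv]⟩
    change (r * s * r⁻¹ * s⁻¹).w = 0
    simp only [Frame.Adm.mul_w, Frame.Adm.inv_w]
    abel
  · -- the rank one identity
    intro x hx hx1
    obtain ⟨r, rfl⟩ := hX x hx
    have hr := hne r hx1
    dsimp only
    rw [hro]
    refine ⟨dZ_memT M hi hp0 (pr_c_ne hp0 hr), inv_mem (hmX _), (ρ (pr p0 r))⁻¹, inv_mem (hmX _), ?_⟩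
    change M.φ _ * M.φ _ * (M.φ _)⁻¹ = (M.φ _)⁻¹ * M.φ _ * M.φ _ * (M.φ _)⁻¹
    rw [← map_inv, ← map_inv, ← map_inv, ← map_mul, ← map_mul, ← map_mul, ← map_mul, ← map_mul]
    congr 1
    apply Subtype.ext
    change WittRGD.nn Fr p0 i * Fr.Z (i, true) r * (WittRGD.nn Fr p0 i)⁻¹ = (Fr.Z (i, true) (pr p0 r))⁻¹ *
      dZ Fr (i, true) p0 (pr p0 r) * WittRGD.nn Fr p0 i * (Fr.Z (i, true) (rt p0 r))⁻¹
    rw [hnn]
    exact conj_nZ D M hA hp0 hw0 i hr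
  · intro x hx hx1
    obtain ⟨r, rfl⟩ := hX x hx
    have hr := hne r hx1
    dsimp only
    rw [hro, inv_mem_iff, mem_map_adm0, mem_map_adm0, rt_w hp0 hr]
  · intro nu hnu _
    obtain ⟨χ, hχ, hχ'⟩ := exists_chi hF D M hA hp0 hw0 hi nu hnu
    have ht : ∀ r, ρ r ≠ 1 → ∀ h : M.φ ⟨dZ Fr (i, true) p0 (pr p0 (ro (ρ r))), dZ_memI M _ _ _⟩ ∈ WittModel.T M,
        ((nu ⟨_, h⟩ : ℂˣ) : ℂ) = χ (r.c * p0.c⁻¹) := by
      intro r hr h
      have h3 := hχ' (ro (ρ r)) (by rw [hro]; exact hne r hr) h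
      rw [h3, hro]
    by_cases hχ1 : χ = 1
    · left
      intro x hx hx1 hx'
      obtain ⟨r, rfl⟩ := hX x hx
      apply Units.ext
      refine (ht r hx1 hx').trans ?_
      rw [hχ1]
      exact MulChar.one_apply (mul_ne_zero (hne r hx1) (inv_ne_zero hp0)).isUnit
    · right
      refine ⟨fun hn => ?_, 1, one_mul 1, ?_, ?_⟩
      · have hc : (p0⁻¹ : Fr.Adm).c = -p0.c := by
          rw [Frame.Adm.inv_c, hw0, H.zero_left, mul_zero, sub_zero]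
        have hc' : (p0⁻¹ : Fr.Adm).c ≠ 0 := by rw [hc]; exact neg_ne_zero.2 hp0
        have h3 : M.φ ⟨WittRGD.nn Fr p0 i, hmem i⟩ * M.φ ⟨WittRGD.nn Fr p0 i, hmem i⟩ =
            M.φ ⟨dZ Fr (i, true) p0 (pr p0 p0⁻¹), dZ_memI M _ _ _⟩ := by
          rw [← map_mul]
          congr 1
          apply Subtype.ext
          change WittRGD.nn Fr p0 i * WittRGD.nn Fr p0 i = dZ Fr (i, true) p0 (pr p0 p0⁻¹)
          rw [hnn, nZ_sq hF D hA _ hp0 hw0]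
          refine dZ_congr D hA _ hp0 hw0 hc' ?_
          rw [pr_c' p0 hc', hc, map_neg, hσ0, _root_.neg_neg]
          field_simp
        have h4 : M.φ ⟨dZ Fr (i, true) p0 (pr p0 p0⁻¹), dZ_memI M _ _ _⟩ ∈ WittModel.T M := by
          rw [← h3]; exact hn
        have h5 : (⟨M.φ ⟨WittRGD.nn Fr p0 i, hmem i⟩ * M.φ ⟨WittRGD.nn Fr p0 i, hmem i⟩, hn⟩ : ↥(WittModel.T M)) =
            ⟨_, h4⟩ := Subtype.ext h3
        dsimp only
        rw [h5]
        apply Units.ext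
        rw [hχ' _ hc' h4, hc, neg_mul, mul_inv_cancel₀ hp0, Units.val_one]
        exact chi_fixed hF hq χ hχ (by rw [hq.neg_one_pow]) (neg_ne_zero.2 one_ne_zero)
      · rintro _ ⟨r, hr, rfl⟩ hr1 h
        refine (ht r hr1 h).trans ?_
        refine chi_fixed hF hq χ hχ ?_ (mul_ne_zero (hne r hr1) (inv_ne_zero hp0))
        rw [mul_pow, inv_pow, hc0, D.c_pow (mem_adm0.1 hr), inv_neg, neg_mul_neg]
      · intro _ f hf hf1
        have h3 := sum_chi hF hq χ hχ hχ1 hp0 hc0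
        rw [← (D.equiv.trans E).sum_comp (fun x : ↥(WittModel.X M (sr i)) => f x)]
        have h4 : ∀ y, f ((D.equiv.trans E) y) = χ (y.1.2 * p0.c⁻¹) := by
          intro y
          change f (ρ (D.equiv y)) = _
          by_cases h5 : ρ (D.equiv y) = 1
          · have h6 : D.equiv y = 1 := hinj (h5.trans (map_one ρ).symm)
            have h7 : y.1.2 = 0 := by rw [← D.equiv_c y, h6]; rfl
            rw [h5, hf1, h7, zero_mul, MulChar.map_zero]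
          · have h8 := dZ_memT M hi hp0 (pr_c_ne hp0 (hne _ h5))
            have h9 : M.φ ⟨dZ Fr (i, true) p0 (pr p0 (ro (ρ (D.equiv y)))), dZ_memI M _ _ _⟩ ∈ WittModel.T M := by
              rw [hro]; exact h8
            rw [hf _ (hmX _) h5 h9]
            exact ht _ h5 h9
        rw [Finset.sum_congr rfl fun y _ => h4 y, h3]
        ring

end node

/-! ### `PSU_{2m+1}(q)` -/

open Cfsg.Agent.LieClassical.HermGen Cfsg.Agent.LieClassical.HermSiegel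
  Cfsg.Agent.Nodes.WittU Cfsg.Agent.Nodes.WittAll Cfsg.Agent.TitsThree.SiegelGen Cfsg.Agent.TitsThree.WBridge
  Cfsg.Agent.TitsThree.KSideU Cfsg.Agent.TitsThree.KSideUDesc

theorem line_psu {N m : ℕ} (hF : Fintype.card F = q ^ 2) (W : WFrame (PU hF N) m) {d : Fin N → F}
    (hd : hermForm N F q d d = 1) (hV0 : W.V0 = Submodule.span F {d}) : Line (toFrame W) q d where
  σ _ := rfl
  ε := rfl
  mem := by
    change d ∈ W.V0
    rw [hV0]
    exact Submodule.mem_span_singleton_self d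
  one := hd
  span w hw := by
    have hw' : w ∈ W.V0 := hw
    rw [hV0] at hw'
    obtain ⟨y, rfl⟩ := Submodule.mem_span_singleton.1 hw'
    exact ⟨y, rfl⟩
  ok w hw c hc := ⟨hw, hc⟩

/-- **`PSU_{2m+1}(q)`, `m ≥ 1`, `q` odd** -/
theorem hasInB_psu_odd {m : ℕ} (hF : Fintype.card F = q ^ 2) (hq : Odd q) (hm : 1 ≤ m) {p : ℕ} [Fact p.Prime]
    [CharP F p] : HasInB p (CoxeterMatrix.B m) (PSU (2 * m + 1) F q) := by
  obtain ⟨W, d, hd, hV0⟩ := exists_wframe_odd (N := 2 * m + 1) hF (m := m) rfl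
  obtain ⟨p0, hp0, hw0⟩ := exists_adm hF W
  exact inB_psu_odd hF hq hm W hd hV0 hp0 (fun i => WittRGD.nn_mem (amb_U hF W) p0 i)
    fun i hi => suNode_line hF hq (line_psu hF W hd hV0) _ (amb_U hF W) hp0 hw0 hi _

end Cfsg.Agent.H428.OQ
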